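import Mathlib.RingTheory.Smooth.Field
import Mathlib.RingTheory.Localization.AtPrime.Basic
import Mathlib.RingTheory.MvPolynomial.Localization
import Mathlib.Algebra.MvPolynomial.PDeriv
import Mathlib.RingTheory.Nakayama
import Mathlib.LinearAlgebra.Matrix.NonsingularInverse
import Mathlib.LinearAlgebra.Matrix.Rank
import Mathlib.LinearAlgebra.Dimension.Finite

namespace Groth.Agent.Jac77
open MvPolynomial
universe u v

theorem eq_zero_of_pderiv_eq_zero {K : Type u} [CommRing K] {σ : Type v} [Fintype σ]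
    {B L : Type*} [CommRing B] [CommRing L] [Algebra K B] [Algebra K L] [Algebra.FormallySmooth K L]
    (ψ : MvPolynomial σ K →ₐ[K] B) (g : B →ₐ[K] L) (hg : Function.Surjective g)
    (hker2 : ∀ a b, g a = 0 → g b = 0 → a * b = 0) {z : MvPolynomial σ K} (hz : g (ψ z) = 0)
    (hd : ∀ i, g (ψ (pderiv i z)) = 0) : ψ z = 0 := by
  classical
  have hnil : IsNilpotent (RingHom.ker (g : B →+* L)) := by
    refine ⟨2, ?_⟩
    rw [sq (RingHom.ker (g : B →+* L)), Submodule.zero_eq_bot, eq_bot_iff, Ideal.mul_le]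
    exact fun a ha b hb => hker2 a b ha hb
  let s := Algebra.FormallySmooth.liftOfSurjective (AlgHom.id K L) g hg hnil
  have hs : ∀ x, g (s x) = x := fun x =>
    Algebra.FormallySmooth.liftOfSurjective_apply (AlgHom.id K L) g hg hnil x
  let φ0 : MvPolynomial σ K →ₐ[K] B := (s.comp g).comp ψ
  let e : σ → B := fun i => ψ (X i) - φ0 (X i)
  have he : ∀ i, g (e i) = 0 := fun i => by simp [e, φ0, hs]
  have key : ∀ p, ψ p = φ0 p + ∑ i, φ0 (pderiv i p) * e i := by
    intro p
    induction p using MvPolynomial.induction_on with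
    | C r =>
      simp only [pderiv_C, map_zero, zero_mul, Finset.sum_const_zero, add_zero]
      exact (ψ.commutes r).trans (φ0.commutes r).symm
    | add p q hp hq =>
      simp only [map_add, add_mul, Finset.sum_add_distrib, hp, hq]; ring
    | mul_X p j hp =>
      have hj : ψ (X j) = φ0 (X j) + e j := by simp [e]
      have hz : (∑ i, φ0 (pderiv i p) * e i) * e j = 0 := by
        rw [Finset.sum_mul]
        exact Finset.sum_eq_zero fun i _ => by rw [mul_assoc, hker2 _ _ (he i) (he j), mul_zero]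
      have hsum : ∑ i, φ0 (pderiv i (p * X j)) * e i =
          (∑ i, φ0 (pderiv i p) * e i) * φ0 (X j) + φ0 p * e j := by
        rw [Finset.sum_mul]
        rw [← Finset.sum_ite_eq' Finset.univ j (fun i => φ0 p * e i) |>.trans (if_pos (Finset.mem_univ j))]
        rw [← Finset.sum_add_distrib]
        refine Finset.sum_congr rfl fun i _ => ?_
        rw [pderiv_mul, map_add, map_mul, map_mul, add_mul]
        rcases eq_or_ne i j with rfl | h
        · rw [pderiv_X_self, map_one, if_pos rfl]; ring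
        · rw [pderiv_X_of_ne h.symm, map_zero, if_neg h]; ring
      rw [map_mul, hp, hj, map_mul, hsum]
      linear_combination hz
  rw [key z]
  simp [φ0, hz, hd]

/-- If a polynomial and all its partial derivatives lie in a prime `P`, then it lies in the symbolic
square of `P` (perfect base field). -/
theorem exists_mul_mem_sq {K : Type u} [Field K] [PerfectField K] {σ : Type v} [Fintype σ]
    (P : Ideal (MvPolynomial σ K)) [P.IsPrime] {z : MvPolynomial σ K} (hz : z ∈ P)
    (hd : ∀ i, pderiv i z ∈ P) : ∃ h ∉ P, h * z ∈ P ^ 2 := by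
  classical
  set Ap := Localization.AtPrime P
  set m := IsLocalRing.maximalIdeal Ap with hm
  let g : (Ap ⧸ m ^ 2) →ₐ[K] IsLocalRing.ResidueField Ap :=
    Ideal.Quotient.liftₐ (m ^ 2) (IsScalarTower.toAlgHom K Ap (IsLocalRing.ResidueField Ap))
      (fun a ha => by
        rw [IsScalarTower.coe_toAlgHom', IsLocalRing.ResidueField.algebraMap_eq,
          IsLocalRing.residue_eq_zero_iff]
        exact Ideal.pow_le_self two_ne_zero ha)
  have hgmk : ∀ a, g (Ideal.Quotient.mk (m ^ 2) a) = IsLocalRing.residue Ap a := fun a => rfl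
  have hg : Function.Surjective g := fun x => by
    obtain ⟨x, rfl⟩ := IsLocalRing.residue_surjective x
    exact ⟨Ideal.Quotient.mk _ x, hgmk x⟩
  have hker2 : ∀ a b, g a = 0 → g b = 0 → a * b = 0 := by
    intro a b ha hb
    obtain ⟨a, rfl⟩ := Ideal.Quotient.mk_surjective a
    obtain ⟨b, rfl⟩ := Ideal.Quotient.mk_surjective b
    rw [← map_mul, Ideal.Quotient.eq_zero_iff_mem, pow_two]
    refine Ideal.mul_mem_mul ?_ ?_
    · rwa [hgmk, IsLocalRing.residue_eq_zero_iff] at ha
    · rwa [hgmk, IsLocalRing.residue_eq_zero_iff] at hb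
  have : Algebra.EssFiniteType K Ap := by
    have : Algebra.EssFiniteType (MvPolynomial σ K) Ap :=
      Algebra.EssFiniteType.of_isLocalization _ P.primeCompl
    exact Algebra.EssFiniteType.comp K (MvPolynomial σ K) Ap
  have : Algebra.EssFiniteType K (IsLocalRing.ResidueField Ap) :=
    Algebra.EssFiniteType.comp K Ap (IsLocalRing.ResidueField Ap)
  have : Algebra.FormallySmooth K (IsLocalRing.ResidueField Ap) :=
    Algebra.FormallySmooth.of_perfectField
  let ψ : MvPolynomial σ K →ₐ[K] (Ap ⧸ m ^ 2) :=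
    (Ideal.Quotient.mkₐ K (m ^ 2)).comp (IsScalarTower.toAlgHom K _ Ap)
  have hP : ∀ p ∈ P, g (ψ p) = 0 := by
    intro p hp
    show g (Ideal.Quotient.mk _ (algebraMap (MvPolynomial σ K) Ap p)) = 0
    rw [hgmk, IsLocalRing.residue_eq_zero_iff, ← Localization.AtPrime.map_eq_maximalIdeal]
    exact Ideal.mem_map_of_mem _ hp
  have h0 := eq_zero_of_pderiv_eq_zero (K := K) (B := Ap ⧸ m ^ 2) (L := IsLocalRing.ResidueField Ap) ψ g hg hker2 (z := z)
  replace h0 := h0 (hP z hz)
  replace h0 := h0 fun i => hP _ (hd i)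
  replace h0 : algebraMap (MvPolynomial σ K) Ap z ∈ m ^ 2 := Ideal.Quotient.eq_zero_iff_mem.1 h0
  rw [hm, ← Localization.AtPrime.map_eq_maximalIdeal, ← Ideal.map_pow,
    IsLocalization.mem_map_algebraMap_iff P.primeCompl Ap] at h0
  obtain ⟨⟨⟨a, ha⟩, ⟨b, hb⟩⟩, hab⟩ := h0
  rw [← map_mul] at hab
  obtain ⟨⟨c, hc⟩, hc'⟩ := IsLocalization.exists_of_eq (M := P.primeCompl) hab
  refine ⟨c * b, Ideal.IsPrime.mul_notMem ‹_› hc hb, ?_⟩
  have : c * b * z = c * a := by rw [← hc']; ring
  rw [this]; exact Ideal.mul_mem_left _ _ ha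

/-- A prime of `R[X]` contracting to zero is, after localisation at it, generated by polynomials with
a nonvanishing Jacobian minor. -/
theorem exists_minor_generators {R : Type u} [CommRing R] [IsDomain R] [IsNoetherianRing R] [CharZero R]
    {σ : Type v} [Fintype σ] (P : Ideal (MvPolynomial σ R)) [P.IsPrime]
    (hPR : ∀ r : R, C r ∈ P → r = 0) :
    ∃ (r : ℕ) (f : Fin r → MvPolynomial σ R) (c : Fin r → σ) (h : MvPolynomial σ R),
      Function.Injective c ∧ (∀ i, f i ∈ P) ∧
      (Matrix.of fun i j => pderiv (c j) (f i)).det ∉ P ∧ h ∉ P ∧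
      ∀ z ∈ P, h * z ∈ Ideal.span (Set.range f) := by
  classical
  set A := MvPolynomial σ R
  let L := FractionRing (A ⧸ P)
  let π : A →+* L := (algebraMap (A ⧸ P) L).comp (Ideal.Quotient.mk P)
  have hπ : ∀ a, π a = 0 ↔ a ∈ P := fun a => by
    simp [π, Ideal.Quotient.eq_zero_iff_mem]
  let grad : A → σ → L := fun z i => π (pderiv i z)
  obtain ⟨B, hBsub, hBspan, hBli⟩ := exists_linearIndependent L (grad '' (P : Set A))
  have : Fintype B := (hBli.set_finite_of_isNoetherian).fintype
  let eB := Fintype.equivFin B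
  set r := Fintype.card B
  have hpre : ∀ i : Fin r, ∃ f ∈ P, grad f = (eB.symm i : σ → L) := fun i => hBsub (eB.symm i).2
  choose f hfP hf using hpre
  let v : Fin r → σ → L := fun i => grad (f i)
  have hvli : LinearIndependent L v := by
    have : v = ((↑) : B → σ → L) ∘ eB.symm := funext hf
    rw [this]; exact hBli.comp _ eB.symm.injective
  have hvspan : ∀ z ∈ P, grad z ∈ Submodule.span L (Set.range v) := by
    intro z hz
    have : v = ((↑) : B → σ → L) ∘ eB.symm := funext hf
    rw [this, Set.range_comp, eB.symm.range_eq_univ, Set.image_univ, Subtype.range_coe, hBspan]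
    exact Submodule.subset_span ⟨z, hz, rfl⟩
  let M : Matrix (Fin r) σ L := Matrix.of v
  have hcolspan : Submodule.span L (Set.range M.col) = ⊤ := by
    apply Submodule.eq_top_of_finrank_eq
    rw [← Matrix.rank_eq_finrank_span_cols, LinearIndependent.rank_matrix (M := M) hvli]
    simp
  obtain ⟨κ, c', hc'i, hc'span, hc'li⟩ := exists_linearIndependent' L M.col
  have : Finite κ := Finite.of_injective c' hc'i
  have : Fintype κ := Fintype.ofFinite κ
  let bas := Module.Basis.mk hc'li (by rw [hc'span, hcolspan])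
  have hκ : Fintype.card κ = r := by
    rw [← Module.finrank_eq_card_basis bas]; simp
  let c : Fin r → σ := c' ∘ (Fintype.equivFinOfCardEq hκ).symm
  let J : Matrix (Fin r) (Fin r) A := Matrix.of fun i j => pderiv (c j) (f i)
  have hJ : (J.map π).det ≠ 0 := by
    have hli : LinearIndependent L (J.map π).col :=
      hc'li.comp _ (Fintype.equivFinOfCardEq hκ).symm.injective
    exact ((Matrix.isUnit_iff_isUnit_det _).1 (Matrix.linearIndependent_cols_iff_isUnit.1 hli)).ne_zero
  have hΔ : J.det ∉ P := by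
    rwa [← hπ, RingHom.map_det]
  have step1 : ∀ z ∈ P, J.det * z - ∑ i, (Matrix.vecMul (fun j => pderiv (c j) z) J.adjugate) i * f i ∈ P ∧
      ∀ l, pderiv l (J.det * z - ∑ i, (Matrix.vecMul (fun j => pderiv (c j) z) J.adjugate) i * f i) ∈ P := by
    intro z hz
    set a := Matrix.vecMul (fun j => pderiv (c j) z) J.adjugate
    refine ⟨P.sub_mem (P.mul_mem_left _ hz) (Ideal.sum_mem _ fun i _ => P.mul_mem_left _ (hfP i)), ?_⟩
    obtain ⟨w, hw⟩ := (Submodule.mem_span_range_iff_exists_fun L).1 (hvspan z hz)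
    have hcol : ∀ j, π (pderiv (c j) z) = ∑ i, w i * π (J i j) := fun j => by
      have := congr_fun hw (c j)
      simpa [v, grad, J] using this.symm
    have ha : ∀ i, π (a i) = π J.det * w i := by
      intro i
      have h1 : π (a i) = Matrix.vecMul (Matrix.vecMul w (J.map π)) (J.map π).adjugate i := by
        have : (J.map π).adjugate = J.adjugate.map π := (RingHom.map_adjugate π J).symm
        rw [this]
        simp only [a, RingHom.map_vecMul]
        congr 1
        · funext j; simpa [Matrix.vecMul, dotProduct] using hcol j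
      rw [h1, Matrix.vecMul_vecMul, Matrix.mul_adjugate, RingHom.map_det]
      simp [Matrix.vecMul_smul]
    intro l
    rw [← hπ]
    have h2 := congr_fun hw l
    simp only [Finset.sum_apply, Pi.smul_apply, smul_eq_mul, v, grad] at h2
    rw [map_sub, map_sum, pderiv_mul]
    simp only [pderiv_mul]
    simp only [map_sub, map_add, map_mul, map_sum, (hπ z).2 hz, fun i => (hπ (f i)).2 (hfP i),
      mul_zero, zero_add, ha, ← h2, Finset.mul_sum, mul_assoc, sub_self]
  let K := FractionRing R
  let φ : A →+* MvPolynomial σ K := MvPolynomial.map (algebraMap R K)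
  let : Algebra A (MvPolynomial σ K) := MvPolynomial.algebraMvPolynomial
  have : IsLocalization ((nonZeroDivisors R).map C) (MvPolynomial σ K) :=
    MvPolynomial.isLocalization (σ := σ) (nonZeroDivisors R) K
  have hdisj : Disjoint (((nonZeroDivisors R).map C : Submonoid A) : Set A) P := by
    rw [Set.disjoint_left]
    rintro _ ⟨x, hx, rfl⟩ hxP
    exact nonZeroDivisors.ne_zero hx (hPR x hxP)
  have hPKp : (P.map φ).IsPrime :=
    IsLocalization.isPrime_of_isPrime_disjoint _ (MvPolynomial σ K) P ‹_› hdisj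
  have hcomap : (P.map φ).comap φ = P :=
    IsLocalization.under_map_of_isPrime_disjoint ((nonZeroDivisors R).map C) (MvPolynomial σ K) ‹_› hdisj
  have : CharZero K := charZero_of_injective_algebraMap (IsFractionRing.injective R K)
  have step2 : ∀ z ∈ P, (∀ l, pderiv l z ∈ P) → ∃ h ∉ P, h * z ∈ P ^ 2 := by
    intro z hz hd
    obtain ⟨h', hh', hmem⟩ := exists_mul_mem_sq (P.map φ) (Ideal.mem_map_of_mem φ hz)
      (fun l => by rw [show φ z = MvPolynomial.map _ z from rfl, pderiv_map]; exact Ideal.mem_map_of_mem φ (hd l))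
    obtain ⟨⟨a, ⟨b, hb⟩⟩, hab⟩ := IsLocalization.surj ((nonZeroDivisors R).map (C (σ := σ))) (S := MvPolynomial σ K) h'
    change h' * φ b = φ a at hab
    have h1 : φ (a * z) ∈ (P ^ 2).map φ := by
      rw [Ideal.map_pow, map_mul, ← hab, mul_right_comm]
      exact Ideal.mul_mem_right _ _ hmem
    obtain ⟨⟨⟨q, hq⟩, ⟨b', hb'⟩⟩, hq'⟩ := (IsLocalization.mem_map_algebraMap_iff
      ((nonZeroDivisors R).map C) (MvPolynomial σ K)).1 (show algebraMap A _ (a * z) ∈ _ from h1)
    change φ (a * z) * φ b' = φ q at hq'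
    rw [← map_mul] at hq'
    have hq'' := MvPolynomial.map_injective _ (IsFractionRing.injective R K) hq'
    refine ⟨a * b', Ideal.IsPrime.mul_notMem ‹_› (fun ha => ?_) (fun hb'' => Set.disjoint_left.1 hdisj hb' hb''), ?_⟩
    · have : h' * φ b ∈ P.map φ := hab ▸ Ideal.mem_map_of_mem φ ha
      rcases hPKp.mem_or_mem this with h | h
      · exact hh' h
      · exact Set.disjoint_left.1 hdisj hb (hcomap ▸ h : b ∈ P)
    · rw [mul_right_comm, hq'']; exact hq
  let Ap := Localization.AtPrime P
  set N := (Ideal.span (Set.range f)).map (algebraMap A Ap)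
  have hNak : P.map (algebraMap A Ap) ≤ N := by
    refine Submodule.le_of_le_smul_of_le_jacobson_bot (I := IsLocalRing.maximalIdeal Ap)
      (IsNoetherian.noetherian _) (le_of_eq (IsLocalRing.jacobson_eq_maximalIdeal ⊥ bot_ne_top).symm) ?_
    rw [Ideal.map_le_iff_le_comap]
    intro z hz
    obtain ⟨h', hh', hmem⟩ := step2 _ (step1 z hz).1 (step1 z hz).2
    rw [Ideal.mem_comap]
    have hu : IsUnit (algebraMap A Ap (h' * J.det)) :=
      IsLocalization.map_units Ap (⟨h' * J.det, Ideal.IsPrime.mul_notMem ‹_› hh' hΔ⟩ : P.primeCompl)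
    rw [← Ideal.unit_mul_mem_iff_mem _ hu]
    rw [← map_mul, show h' * J.det * z = h' * (J.det * z - ∑ i, (Matrix.vecMul (fun j => pderiv (c j) z) J.adjugate) i * f i) + h' * ∑ i, (Matrix.vecMul (fun j => pderiv (c j) z) J.adjugate) i * f i by ring, map_add]
    refine Submodule.add_mem _ (Submodule.mem_sup_right ?_) (Submodule.mem_sup_left ?_)
    · have := Ideal.mem_map_of_mem (algebraMap A Ap) hmem
      rw [Ideal.map_pow, pow_two] at this
      rw [← Localization.AtPrime.map_eq_maximalIdeal, smul_eq_mul]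
      exact this
    · exact Ideal.mem_map_of_mem _ (Ideal.mul_mem_left _ _ (Ideal.sum_mem _ fun i _ =>
        Ideal.mul_mem_left _ _ (Ideal.subset_span ⟨i, rfl⟩)))
  have step3 : ∀ z ∈ P, ∃ h ∉ P, h * z ∈ Ideal.span (Set.range f) := by
    intro z hz
    obtain ⟨⟨⟨a, ha⟩, ⟨b, hb⟩⟩, hab⟩ := (IsLocalization.mem_map_algebraMap_iff P.primeCompl Ap).1
      (hNak (Ideal.mem_map_of_mem _ hz))
    rw [← map_mul] at hab
    obtain ⟨⟨d, hd⟩, hd'⟩ := IsLocalization.exists_of_eq (M := P.primeCompl) hab
    refine ⟨d * b, Ideal.IsPrime.mul_notMem ‹_› hd hb, ?_⟩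
    have : d * b * z = d * a := by rw [← hd']; ring
    rw [this]; exact Ideal.mul_mem_left _ _ ha
  choose hfun hfun1 hfun2 using step3
  obtain ⟨s, hs⟩ := (IsNoetherian.noetherian P : P.FG)
  have hsP : ∀ z ∈ s, z ∈ P := fun z hz => hs ▸ Ideal.subset_span hz
  refine ⟨r, f, c, ∏ z ∈ s.attach, hfun z.1 (hsP z.1 z.2), hc'i.comp (Equiv.injective _), hfP, hΔ, ?_, ?_⟩
  · intro hmem
    obtain ⟨z, _, hz⟩ := (Ideal.IsPrime.prod_mem_iff).1 hmem
    exact hfun1 _ _ hz
  · intro z hz
    set H := ∏ z ∈ s.attach, hfun z.1 (hsP z.1 z.2)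
    have hzs : z ∈ Ideal.span (s : Set A) := by rw [show Ideal.span (s : Set A) = P from hs]; exact hz
    induction hzs using Submodule.span_induction with
    | mem x hx =>
      obtain ⟨q, hq⟩ : hfun x (hsP x hx) ∣ H :=
        Finset.dvd_prod_of_mem (fun z : s => hfun z.1 (hsP z.1 z.2)) (Finset.mem_attach s ⟨x, hx⟩)
      rw [hq, mul_right_comm]; exact Ideal.mul_mem_right _ _ (hfun2 _ _)
    | zero => simp
    | add x y hx hy ihx ihy =>
      rw [mul_add]
      exact Ideal.add_mem _ (ihx (hs ▸ hx)) (ihy (hs ▸ hy))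
    | smul a x hx ihx =>
      rw [smul_eq_mul, mul_left_comm]
      exact Ideal.mul_mem_left _ _ (ihx (hs ▸ hx))

end Groth.Agent.Jac77
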